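import Groth.Agent.Models7.RationalPoint
import Groth.Agent.Models7.DivChi
import Groth.Agent.Models7.RedFibre
import Groth.Agent.Models7.EulerFibre
import Groth.Agent.Inters29.Connected
import Groth.Agent.Props12.KerReduced

/-!
# Constants on reduced vertical curves
-/

set_option autoImplicit false
set_option linter.style.haveILetI false
set_option linter.unusedSectionVars false
set_option backward.isDefEq.respectTransparency false
set_option maxHeartbeats 1000000

universe u

open CategoryTheory CategoryTheory.Limits AlgebraicGeometry Opposite TopologicalSpace IsLocalRing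
open Groth.Agent.Coherent Groth.Agent.PicLib Groth.Agent.AmpleLib Groth.Agent.EulerLib

namespace Groth.Agent.RedGenus7

/-- A connected reduced proper scheme over an algebraically closed field has only constant functions. -/
theorem field_and_surjective {k : Type u} [Field k] [IsAlgClosed k] {Z : Scheme.{u}}
    (q : Z ⟶ Spec (CommRingCat.of k)) [IsProper q] [AlgebraicGeometry.IsReduced Z] [PreconnectedSpace Z]
    (z : Z) : IsField Γ(Z, ⊤) ∧ Function.Surjective (Coh.toGlobal q) := by
  haveI : Nontrivial Γ(Z, ⊤) := RingHom.domain_nontrivial (Z.presheaf.germ ⊤ z trivial).hom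
  have hfin : q.appTop.hom.Finite := Coherent.finite_app_of_isProper q (isAffineOpen_top _)
  let e := (Scheme.ΓSpecIso (CommRingCat.of k)).symm.commRingCatIsoToRingEquiv
  let φ := q.appTop.hom.comp e.toRingHom
  letI : Algebra k Γ(Z, ⊤) := φ.toAlgebra
  have hφ : φ.Finite := RingHom.Finite.comp hfin (RingHom.Finite.of_surjective _ e.surjective)
  haveI : Module.Finite k Γ(Z, ⊤) := hφ
  have hf : IsField Γ(Z, ⊤) := Inters29.isField_of_finite (k := k) Inters29.idempotent_eq_zero_or_one
  haveI : IsDomain Γ(Z, ⊤) := hf.isDomain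
  exact ⟨hf, (IsAlgClosed.algebraMap_bijective_of_isIntegral (k := k) (K := Γ(Z, ⊤))).2⟩

variable (R : Type u) [CommRing R] [IsDomain R] [IsDiscreteValuationRing R]
  [IsAlgClosed (ResidueField R)]

/-- The field of constants of a vertical curve over an algebraically closed residue field. -/
theorem wdeg_eq_one {X : Over (Spec (CommRingCat.of R))} (Γ : ArSurf.VertComp R X) [IsProper Γ.curve.hom] :
    Models.wdeg R X Γ = 1 := by
  let k := ResidueField R
  let E := Γ.curve.left
  letI : E.Over (Spec (CommRingCat.of k)) := ⟨Γ.curve.hom⟩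
  haveI : IsProper (E ↘ Spec (CommRingCat.of k)) := ‹IsProper Γ.curve.hom›
  obtain ⟨-, hs⟩ := field_and_surjective Γ.curve.hom (genericPoint E)
  haveI : Nonempty (⊤ : E.Opens) := ⟨⟨genericPoint E, trivial⟩⟩
  let φk : k →+* Γ(E, ⊤) := Coh.toGlobal Γ.curve.hom
  letI : Algebra k Γ(E, ⊤) := φk.toAlgebra
  let e1 : Coh.HH E (Coh.structureModule E) 0 ≃ₗ[k] Γ(E, ⊤) :=
    { ((CurveRR24.hhZero k (Coh.structureModule E)).toAddEquiv : _ ≃+ Γ(E, ⊤)) with
      map_smul' := fun c v => (CurveRR24.hhZero k (Coh.structureModule E)).map_smul c v }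
  show Module.finrank k (Coh.HH E (Coh.structureModule E) 0) = 1
  rw [e1.finrank_eq]
  refine finrank_eq_one (1 : Γ(E, ⊤)) one_ne_zero fun w => ?_
  obtain ⟨c, rfl⟩ := hs w
  exact ⟨c, by rw [Algebra.smul_def, mul_one]; rfl⟩

/-- The reduced connected special fibre has only constant functions. -/
theorem lengthH_redFibre_zero {X : Scheme.{u}} (p : X ⟶ Spec (CommRingCat.of R)) [IsProper p]
    (hconn : _root_.IsConnected (Models.specialFibreSet R (Over.mk p))) :
    Models.lengthH R (Over.mk p) (ClSub.quotMod (Models.redFibreIdeal R (Over.mk p))) 0 = 1 := by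
  let I : X.IdealSheafData := Models.redFibreIdeal R (Over.mk p)
  let Z := I.subscheme
  let c := Spec.map (CommRingCat.ofHom (residue R))
  haveI : IsClosedImmersion c := Inters29.isClosedImmersion_residue R
  let j := pullback.fst p c
  haveI : IsClosedImmersion j := MorphismProperty.pullback_fst _ _ inferInstance
  haveI : QuasiCompact (Over.mk p).hom := inferInstanceAs (QuasiCompact p)
  have hk : j.ker = Models.specialFibreIdeal R (Over.mk p) := Inters29.ker_fst_specialFibre R (X := Over.mk p)
  have hle : j.ker ≤ I.subschemeι.ker := by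
    rw [hk, Scheme.IdealSheafData.ker_subschemeι]
    exact Scheme.IdealSheafData.le_support_iff_le_vanishingIdeal.1
      (Inters29.support_specialFibreIdeal R (X := Over.mk p)).ge
  let b : Z ⟶ pullback p c := IsClosedImmersion.lift j _ hle
  have hb : b ≫ j = I.subschemeι := IsClosedImmersion.lift_fac _ _ _
  haveI : IsClosedImmersion (b ≫ j) := by rw [hb]; infer_instance
  haveI : IsClosedImmersion b := IsClosedImmersion.of_comp b j
  let q : Z ⟶ Spec (CommRingCat.of (ResidueField R)) := b ≫ pullback.snd p c
  haveI : IsProper (pullback.snd p c) := MorphismProperty.pullback_snd (P := @IsProper) _ _ inferInstance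
  haveI : IsProper q := inferInstanceAs (IsProper (b ≫ pullback.snd p c))
  haveI : AlgebraicGeometry.IsReduced Z := Props12.isReduced_subscheme_vanishingIdeal _
  have hr : Set.range I.subschemeι.base = Models.specialFibreSet R (Over.mk p) := by
    refine (Scheme.IdealSheafData.range_subschemeι I).trans ?_
    simp [I, Models.redFibreIdeal]
  haveI : PreconnectedSpace Z := ⟨by
    refine I.subschemeι.isEmbedding.isInducing.isPreconnected_image.1 ?_
    rw [Set.image_univ, hr]; exact hconn.isPreconnected⟩
  obtain ⟨x, hx⟩ := hconn.nonempty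
  obtain ⟨z, -⟩ := hr.ge hx
  obtain ⟨hf, hs⟩ := field_and_surjective q z
  refine Models7.lengthH_zero_eq_one R (X := Over.mk p) I hf fun w => ?_
  obtain ⟨a, rfl⟩ := hs w
  obtain ⟨r, rfl⟩ := residue_surjective a
  refine ⟨r, ?_⟩
  show Coh.toGlobal (I.subschemeι ≫ p) r = _
  rw [← hb, Category.assoc, pullback.condition, ← Category.assoc, Models7.toGlobal_comp_ringHom]
  rfl

end Groth.Agent.RedGenus7
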